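import Groth.Agent.DescLib.LocalDim
import Groth.Agent.H23.TopDim
import Groth.Agent.FlatDevBC.At
import Groth.Agent.FlatDevBC.Dim
import Groth.Agent.FlatDevLoc.Basic
import Groth.Agent.FlatClosed.Basic
import Groth.Agent.DevExist.LiftNhd
import Groth.Agent.FlatPure.Model
import Groth.Agent.FlatHens.Transfer
import Mathlib

/-! The dimension of the support of a fibre module is kept by etale maps. -/

set_option autoImplicit false
set_option backward.isDefEq.respectTransparency false
set_option backward.isDefEq.respectTransparency.types false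
attribute [-instance] CategoryTheory.catToReflQuiver
set_option linter.style.haveILetI false

universe u

open TensorProduct AlgebraicGeometry CategoryTheory

namespace Groth.Agent.OneStepEt

/-- The local dimension of a closed set is kept along an etale map of affine schemes. -/
theorem localDim_zeroLocus_etale {F F' : Type u} [CommRing F] [CommRing F'] [Algebra F F'] [Algebra.Etale F F']
    (J : Ideal F) (A : Set (PrimeSpectrum F)) (A' : Set (PrimeSpectrum F'))
    (hA : ∀ x, x ∈ A ↔ J ≤ x.asIdeal) (hA' : ∀ x, x ∈ A' ↔ PrimeSpectrum.comap (algebraMap F F') x ∈ A) :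
    topologicalKrullDim A' ≤ topologicalKrullDim A ∧ ∀ x : A',
      FlatMor.localDim A' x = FlatMor.localDim A ⟨_, (hA' x.1).1 x.2⟩ := by
  let Q := F ⧸ J
  let Q' := Q ⊗[F] F'
  haveI : Algebra.Etale Q Q' := inferInstanceAs (Algebra.Etale Q (Q ⊗[F] F'))
  let π : F →+* Q := Ideal.Quotient.mk J
  let ψ : F' →+* Q' := (Algebra.TensorProduct.includeRight (R := F) (A := Q) (B := F')).toRingHom
  have hcomm : ψ.comp (algebraMap F F') = (algebraMap Q Q').comp π := RingHom.ext fun a => by
    show (1 : Q) ⊗ₜ[F] algebraMap F F' a = π a ⊗ₜ[F] (1 : F')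
    rw [Algebra.algebraMap_eq_smul_one, ← TensorProduct.smul_tmul, Algebra.smul_def, mul_one]
    rfl
  have hπ : Function.Surjective π := Ideal.Quotient.mk_surjective
  have hψ : Function.Surjective ψ := by
    intro x
    induction x using TensorProduct.induction_on with
    | zero => exact ⟨0, map_zero _⟩
    | tmul a b =>
      obtain ⟨a, rfl⟩ := hπ a
      refine ⟨a • b, ?_⟩
      show (1 : Q) ⊗ₜ[F] (a • b) = π a ⊗ₜ[F] b
      rw [← TensorProduct.smul_tmul, Algebra.smul_def, mul_one]
      rfl
    | add a b ha hb =>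
      obtain ⟨ya, rfl⟩ := ha
      obtain ⟨yb, rfl⟩ := hb
      exact ⟨ya + yb, map_add _ _ _⟩
  have hrA : Set.range (PrimeSpectrum.comap π) = A := by
    rw [_root_.range_comap_of_surjective _ _ hπ, Ideal.mk_ker]
    exact Set.ext fun x => (PrimeSpectrum.mem_zeroLocus x _).trans (hA x).symm
  have hrA' : Set.range (PrimeSpectrum.comap ψ) = A' := by
    refine Set.ext fun x => ⟨?_, fun hx => ?_⟩
    · rintro ⟨v, rfl⟩
      refine (hA' _).2 (hrA.le ⟨PrimeSpectrum.comap (algebraMap Q Q') v, ?_⟩)
      rw [← PrimeSpectrum.comap_comp_apply, ← PrimeSpectrum.comap_comp_apply, hcomm]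
    · rw [_root_.range_comap_of_surjective _ _ hψ, PrimeSpectrum.mem_zeroLocus]
      obtain ⟨u, hu⟩ := hrA.ge ((hA' x).1 hx)
      letI : Algebra F' Q' := ψ.toAlgebra
      haveI : IsScalarTower F F' Q' := IsScalarTower.of_algebraMap_eq' (by
        rw [RingHom.algebraMap_toAlgebra, hcomm]; rfl)
      haveI : Algebra.IsPushout F Q F' Q' := TensorProduct.isPushout (R := F) (S := Q) (T := F')
      obtain ⟨z, hz, hz1, hz2⟩ := FlatHens.exists_prime_pair (R := F) (S := Q) (T := F') (U := Q') u.asIdeal x.asIdeal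
        (congrArg PrimeSpectrum.asIdeal hu)
      rw [← hz2]
      intro t ht
      show algebraMap F' Q' t ∈ z
      rw [RingHom.algebraMap_toAlgebra, RingHom.mem_ker.1 ht]
      exact z.zero_mem
  let eA : PrimeSpectrum Q ≃ₜ A :=
    (PrimeSpectrum.isClosedEmbedding_comap_of_surjective _ π hπ).isEmbedding.toHomeomorph.trans (Homeomorph.setCongr hrA)
  let eA' : PrimeSpectrum Q' ≃ₜ A' :=
    (PrimeSpectrum.isClosedEmbedding_comap_of_surjective _ ψ hψ).isEmbedding.toHomeomorph.trans (Homeomorph.setCongr hrA')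
  let φ := Spec.map (CommRingCat.ofHom (algebraMap Q Q'))
  haveI : Etale φ := (HasRingHomProperty.Spec_iff (P := @Etale)).2 (RingHom.etale_algebraMap.2 inferInstance)
  have key : ∀ x : A', FlatMor.localDim A' x = FlatMor.localDim A ⟨_, (hA' x.1).1 x.2⟩ := fun x => by
    obtain ⟨v, rfl⟩ := eA'.surjective x
    rw [← FlatDevBC.localDim_homeomorph eA' v,
      show FlatMor.localDim (PrimeSpectrum Q') v = FlatMor.localDim (PrimeSpectrum Q) (φ v) from
        DescLib.localDim_eq_of_etale φ v,
      FlatDevBC.localDim_homeomorph eA]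
    congr 1
    refine Subtype.ext ?_
    show PrimeSpectrum.comap π (PrimeSpectrum.comap (algebraMap Q Q') v) =
      PrimeSpectrum.comap (algebraMap F F') (PrimeSpectrum.comap ψ v)
    rw [← PrimeSpectrum.comap_comp_apply, ← PrimeSpectrum.comap_comp_apply, hcomm]
  refine ⟨?_, key⟩
  rw [H23.TopDim.dim_eq_iSup_localDim]
  exact iSup_le fun x => (key x).le.trans (H23.TopDim.localDim_le_dim _)

attribute [local instance] Algebra.TensorProduct.rightAlgebra

set_option maxHeartbeats 1600000 in
theorem supportDim_localDim_etale {R T T' M M' : Type u} [CommRing R] [CommRing T] [CommRing T'] [Algebra R T]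
    [Algebra R T'] [Algebra T T'] [IsScalarTower R T T'] [Algebra.Etale T T'] [AddCommGroup M] [Module T M]
    [Module R M] [IsScalarTower R T M] [Module.Finite T M] [AddCommGroup M'] [Module T' M'] [Module R M']
    [IsScalarTower R T' M'] [Module T M'] [IsScalarTower T T' M'] (l : M →ₗ[T] M') (hl : IsBaseChange T' l)
    (p : Ideal R) [p.IsPrime] (y : Ideal T) [y.IsPrime] [y.LiesOver p] (y' : Ideal T') [y'.IsPrime]
    [y'.LiesOver y] [y'.LiesOver p] (n : ℕ)
    (hdim : Module.supportDim (p.Fiber T) (FlatCA.fiberMod p T M) = n)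
    (h : ∃ (x : PrimeSpectrum (p.Fiber T)) (hx : x ∈ Module.support (p.Fiber T) (FlatCA.fiberMod p T M)),
      x.asIdeal = FlatCA.fiberIdeal p y ∧
      FlatMor.localDim (Module.support (p.Fiber T) (FlatCA.fiberMod p T M)) ⟨x, hx⟩ = n) :
    Module.supportDim (p.Fiber T') (FlatCA.fiberMod p T' M') = n ∧
    ∃ (x : PrimeSpectrum (p.Fiber T')) (hx : x ∈ Module.support (p.Fiber T') (FlatCA.fiberMod p T' M')),
      x.asIdeal = FlatCA.fiberIdeal p y' ∧
      FlatMor.localDim (Module.support (p.Fiber T') (FlatCA.fiberMod p T' M')) ⟨x, hx⟩ = n := by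
  obtain ⟨ξ, hξ, hξe, hξd⟩ := h
  haveI : Module.Finite T' M' := Module.Finite.equiv hl.equiv
  let k := p.ResidueField
  let F := p.Fiber T
  let F' := p.Fiber T'
  let θ : F →ₐ[k] F' := Algebra.TensorProduct.map (AlgHom.id k k) (IsScalarTower.toAlgHom R T T')
  letI : Algebra F F' := θ.toRingHom.toAlgebra
  haveI : IsScalarTower k F F' := IsScalarTower.of_algebraMap_eq fun a => (θ.commutes a).symm
  letI : Algebra T F' := ((algebraMap T' F').comp (algebraMap T T')).toAlgebra
  haveI : IsScalarTower T T' F' := IsScalarTower.of_algebraMap_eq' rfl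
  haveI : IsScalarTower T F F' := IsScalarTower.of_algebraMap_eq fun t => by
    show (1 : k) ⊗ₜ[R] algebraMap T T' t = θ ((1 : k) ⊗ₜ[R] t)
    exact (Algebra.TensorProduct.map_tmul (AlgHom.id k k) (IsScalarTower.toAlgHom R T T') 1 t).symm
  haveI : IsScalarTower R F F' := IsScalarTower.of_algebraMap_eq fun r => by
    exact ((IsScalarTower.algebraMap_apply R k F' r).trans (IsScalarTower.algebraMap_apply k F F' _)).trans
      (congrArg _ (IsScalarTower.algebraMap_apply R k F r).symm)
  haveI : Algebra.IsPushout T T' F F' := by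
    haveI : Algebra.IsPushout R T k F := Algebra.IsPushout.symm (inferInstanceAs (Algebra.IsPushout R k T (k ⊗[R] T)))
    haveI : Algebra.IsPushout R T' k F' := Algebra.IsPushout.symm (inferInstanceAs (Algebra.IsPushout R k T' (k ⊗[R] T')))
    exact (Algebra.IsPushout.comp_iff (R := R) (S := T) (R' := k) (S' := F) (T := T') (T' := F')).1 inferInstance
  haveI : Algebra.IsPushout T F T' F' := Algebra.IsPushout.symm inferInstance
  haveI : Algebra.Etale F F' :=
    Algebra.Etale.of_equiv (A := F ⊗[T] T') (Algebra.IsPushout.equiv T F T' F')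
  let J : Ideal F := (Module.annihilator T M).map (algebraMap T F)
  let A := Module.support F (FlatCA.fiberMod p T M)
  let A' := Module.support F' (FlatCA.fiberMod p T' M')
  have hA : ∀ x, x ∈ A ↔ J ≤ x.asIdeal := fun x => by
    rw [FlatDevBC.mem_support_fiber_iff, Ideal.map_le_iff_le_comap]
    rfl
  have hA' : ∀ x, x ∈ A' ↔ PrimeSpectrum.comap (algebraMap F F') x ∈ A := fun x => by
    rw [FlatDevBC.mem_support_fiber_iff, FlatDevBC.mem_support_fiber_iff]
    haveI := ((PrimeSpectrum.primesOverOrderIsoFiber R T' p).symm x).2.1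
    refine ((Module.mem_support_iff_of_finite (p := (⟨_, this⟩ : PrimeSpectrum T'))).symm.trans
      ((Groth.Agent.QCoh.mem_support_baseChange hl _).trans Module.mem_support_iff_of_finite)).trans (Iff.of_eq ?_)
    refine congrArg (fun I => Module.annihilator T M ≤ I) ?_
    show (x.asIdeal.comap (algebraMap T' F')).comap (algebraMap T T') =
      (x.asIdeal.comap (algebraMap F F')).comap (algebraMap T F)
    rw [Ideal.comap_comap, Ideal.comap_comap, ← IsScalarTower.algebraMap_eq, ← IsScalarTower.algebraMap_eq]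
  obtain ⟨hle, hloc⟩ := localDim_zeroLocus_etale J A A' hA hA'
  let x' := PrimeSpectrum.primesOverOrderIsoFiber R T' p ⟨y', inferInstance, inferInstance⟩
  have hx' : PrimeSpectrum.comap (algebraMap F F') x' = ξ := by
    refine (PrimeSpectrum.primesOverOrderIsoFiber R T p).symm.injective (Subtype.ext ?_)
    rw [show ξ = PrimeSpectrum.primesOverOrderIsoFiber R T p ⟨y, inferInstance, inferInstance⟩ from
      PrimeSpectrum.ext (hξe.trans (FlatDevLoc.primesOver_fiberIdeal p y inferInstance).symm),
      OrderIso.symm_apply_apply]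
    have hy' : x'.asIdeal.comap (algebraMap T' F') = y' :=
      congrArg Subtype.val ((PrimeSpectrum.primesOverOrderIsoFiber R T' p).symm_apply_apply ⟨y', inferInstance, inferInstance⟩)
    show (x'.asIdeal.comap (algebraMap F F')).comap (algebraMap T F) = y
    rw [Ideal.comap_comap, ← IsScalarTower.algebraMap_eq, IsScalarTower.algebraMap_eq T T' F', ← Ideal.comap_comap, hy']
    exact (Ideal.over_def y' y).symm
  have hx'A : x' ∈ A' := (hA' x').2 (by rw [hx']; exact hξ)
  have hd : FlatMor.localDim A' ⟨x', hx'A⟩ = n := by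
    rw [hloc ⟨x', hx'A⟩, ← hξd]
    congr 1
    exact Subtype.ext hx'
  haveI : Module.Finite F' (FlatCA.fiberMod p T' M') :=
    inferInstanceAs (Module.Finite F' (F' ⊗[T'] M'))
  haveI : Module.Finite F (FlatCA.fiberMod p T M) :=
    inferInstanceAs (Module.Finite F (F ⊗[T] M))
  refine ⟨le_antisymm ?_ ?_, x', hx'A, FlatDevLoc.primesOver_fiberIdeal p y' inferInstance, hd⟩
  · rw [← FlatDevLoc.supportDim_eq_topologicalKrullDim, ← hdim, ← FlatDevLoc.supportDim_eq_topologicalKrullDim]
    exact hle
  · rw [← FlatDevLoc.supportDim_eq_topologicalKrullDim, ← hd]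
    exact H23.TopDim.localDim_le_dim _

set_option maxHeartbeats 1600000 in
/-- The dimensions are kept by a base change with trivial residue extension followed by an etale map. -/
theorem supportDim_localDim_move {R R' S S' N N' : Type u} [CommRing R] [CommRing R'] [CommRing S] [CommRing S']
    [Algebra R R'] [Algebra.Etale R R'] [Algebra R S] [Algebra.FiniteType R S] [Algebra R' S'] [Algebra R S'] [Algebra S S']
    [IsScalarTower R R' S'] [IsScalarTower R S S'] [Algebra.Etale S S'] [AddCommGroup N] [Module S N] [Module R N]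
    [IsScalarTower R S N] [Module.Finite S N] [AddCommGroup N'] [Module S' N'] [Module R' N']
    [IsScalarTower R' S' N'] [Module S N'] [IsScalarTower S S' N'] (f : N →ₗ[S] N') (hf : IsBaseChange S' f)
    (p : Ideal R) [p.IsPrime] (q : Ideal S) [q.IsPrime] [q.LiesOver p] (p' : Ideal R') [p'.IsPrime]
    [hp : p'.LiesOver p] (hκ : Function.Bijective (Ideal.ResidueField.mapₐ p p' (Algebra.ofId R R') hp.over))
    (q' : Ideal S') [q'.IsPrime] [hq'q : q'.LiesOver q] [hq'p : q'.LiesOver p'] (n : ℕ)
    (hdim : Module.supportDim (p.Fiber S) (FlatCA.fiberMod p S N) = n)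
    (h : ∃ (ξ : PrimeSpectrum (p.Fiber S)) (hξ : ξ ∈ Module.support (p.Fiber S) (FlatCA.fiberMod p S N)),
      ξ.asIdeal = FlatCA.fiberIdeal p q ∧
      FlatMor.localDim (Module.support (p.Fiber S) (FlatCA.fiberMod p S N)) ⟨ξ, hξ⟩ = n) :
    Module.supportDim (p'.Fiber S') (FlatCA.fiberMod p' S' N') = n ∧
    ∃ (ξ : PrimeSpectrum (p'.Fiber S')) (hξ : ξ ∈ Module.support (p'.Fiber S') (FlatCA.fiberMod p' S' N')),
      ξ.asIdeal = FlatCA.fiberIdeal p' q' ∧
      FlatMor.localDim (Module.support (p'.Fiber S') (FlatCA.fiberMod p' S' N')) ⟨ξ, hξ⟩ = n := by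
  obtain ⟨Sb, Nb, _, _, _, _, _, _, _, _, _, _, _, _, l, hp1, hp2, hl⟩ := FlatPure.exists_base_model R R' S N
  haveI := hp1; haveI := hp2
  let π : Sb →ₐ[R] S' := Algebra.pushoutDesc Sb (IsScalarTower.toAlgHom R R' S') (IsScalarTower.toAlgHom R S S')
    fun _ _ => mul_comm _ _
  letI : Algebra Sb S' := π.toRingHom.toAlgebra
  haveI : IsScalarTower R' Sb S' := IsScalarTower.of_algebraMap_eq fun a =>
    (Algebra.pushoutDesc_left Sb (IsScalarTower.toAlgHom R R' S') (IsScalarTower.toAlgHom R S S')
      (fun _ _ => mul_comm _ _) a).symm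
  haveI : IsScalarTower S Sb S' := IsScalarTower.of_algebraMap_eq fun a =>
    (Algebra.pushoutDesc_right Sb (IsScalarTower.toAlgHom R R' S') (IsScalarTower.toAlgHom R S S')
      (fun _ _ => mul_comm _ _) a).symm
  haveI : Algebra.Etale S Sb := by
    haveI : Algebra.IsPushout R S R' Sb := hp2
    exact Algebra.Etale.of_equiv (A := S ⊗[R] R') (Algebra.IsPushout.equiv R S R' Sb)
  haveI : Algebra.Etale Sb S' := Algebra.Etale.of_restrictScalars S Sb S'
  let qb : Ideal Sb := q'.comap (algebraMap Sb S')
  haveI : qb.IsPrime := Ideal.IsPrime.comap _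
  haveI : q'.LiesOver qb := ⟨rfl⟩
  haveI : qb.LiesOver q := ⟨by
    show q = (q'.comap (algebraMap Sb S')).comap (algebraMap S Sb)
    rw [Ideal.comap_comap, ← IsScalarTower.algebraMap_eq]
    exact hq'q.over⟩
  haveI : qb.LiesOver p' := ⟨by
    show p' = (q'.comap (algebraMap Sb S')).comap (algebraMap R' Sb)
    rw [Ideal.comap_comap, ← IsScalarTower.algebraMap_eq]
    exact hq'p.over⟩
  haveI : Module.Finite Sb Nb := Module.Finite.equiv hl.equiv
  have hdim' : Module.supportDim (p'.Fiber Sb) (FlatCA.fiberMod p' Sb Nb) = n :=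
    (FlatDevBC.supportDim_fiber_baseChange l hl p p').trans hdim
  have h' := FlatDevBC.localDim_baseChange p p' hκ l hl q qb n h
  letI : Module Sb N' := Module.compHom N' (algebraMap Sb S')
  haveI : IsScalarTower Sb S' N' := IsScalarTower.of_algebraMap_smul fun _ _ => rfl
  haveI : IsScalarTower S Sb N' := IsScalarTower.to₁₂₄ S Sb S' N'
  let b : Nb →ₗ[Sb] N' := hl.lift f
  have hb : IsBaseChange S' b := IsBaseChange.of_comp hl (by
    rw [show ((b.restrictScalars S) ∘ₗ l) = f from LinearMap.ext fun m => hl.lift_eq f m]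
    exact hf)
  exact supportDim_localDim_etale b hb p' qb q' n hdim' h'

end Groth.Agent.OneStepEt
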