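import Groth.Agent.DevExist.Extend
import Mathlib

/-! An etale neighbourhood of the smooth algebra with geometrically integral fibres near the point. -/

set_option autoImplicit false
set_option backward.isDefEq.respectTransparency false
set_option backward.isDefEq.respectTransparency.types false
attribute [-instance] CategoryTheory.catToReflQuiver
set_option linter.style.haveILetI false

universe u

open TensorProduct

namespace Groth.Agent.OneStepEt

open DevExist

attribute [local instance] Algebra.TensorProduct.rightAlgebra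

set_option maxHeartbeats 1600000 in
theorem exists_geomNhd {R D : Type u} [CommRing R] [CommRing D] [Algebra R D] (n : ℕ)
    (hrel : FlatCA.SmoothRelDim n R D) (p : Ideal R) [p.IsPrime] (y : Ideal D) [y.IsPrime] [y.LiesOver p]
    (h4 : FlatCA.PurelyTranscendental p y)
    (R' : Type u) [CommRing R'] [Algebra R R'] (p' : Ideal R') [p'.IsPrime] (hR' : FlatCA.IsEtaleNhd R R' p p')
    (D' : Type u) [CommRing D'] [Algebra D D'] [Algebra R' D'] [Algebra R D'] [IsScalarTower R R' D']
    [IsScalarTower R D D'] (y' : Ideal D') [y'.IsPrime] (hD' : FlatCA.IsEtaleNhd D D' y y') [y'.LiesOver p'] :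
    ∃ (R₃ : Type u) (_ : CommRing R₃) (_ : Algebra R' R₃) (p₃ : Ideal R₃) (_ : p₃.IsPrime),
      FlatCA.IsEtaleNhd R' R₃ p' p₃ ∧
    ∃ (w : R₃ ⊗[R'] D') (y₃ : Ideal (R₃ ⊗[R'] D')) (_ : y₃.IsPrime) (_ : y₃.LiesOver p₃),
      w ∉ y₃ ∧ FlatCA.IsEtaleNhd D' (R₃ ⊗[R'] D') y' y₃ ∧ FlatCA.SmoothRelDim n R₃ (R₃ ⊗[R'] D') ∧
      FlatCA.GeomIntegralFibres R₃ (Localization.Away w) := by
  obtain ⟨heR', hp', hκ'⟩ := hR'
  obtain ⟨heD', hy', hκD⟩ := hD'
  haveI := heR'; haveI := hp'; haveI := heD'; haveI := hy'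
  let B := R' ⊗[R] D
  let π : B →ₐ[R'] D' := Algebra.TensorProduct.lift (Algebra.ofId R' D') (IsScalarTower.toAlgHom R D D')
    fun _ _ => Commute.all _ _
  letI : Algebra B D' := π.toRingHom.toAlgebra
  haveI : IsScalarTower R' B D' := IsScalarTower.of_algebraMap_eq fun a => (π.commutes a).symm
  haveI : IsScalarTower D B D' := IsScalarTower.of_algebraMap_eq fun b => by
    show algebraMap D D' b = Algebra.TensorProduct.lift _ _ _ ((1 : R') ⊗ₜ[R] b)
    rw [Algebra.TensorProduct.lift_tmul, map_one, one_mul]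
    rfl
  haveI : Algebra.Etale D B := etale_rightAlgebra R R' D
  haveI : Algebra.Etale B D' := Algebra.Etale.of_restrictScalars D B D'
  have hrel' : FlatCA.SmoothRelDim n R' D' := smoothRelDim_etale n (smoothRelDim_baseChange n hrel)
  haveI : Algebra.Smooth R' D' := smooth_of_smoothRelDim n hrel'
  have hpure' : FlatCA.PurelyTranscendental p' y' :=
    FlatDevLoc.purelyTranscendental_of_bijective p p' hκ' y y' ((bijective_mapₐ_iff y y').1 hκD) h4
  obtain ⟨R₃, _, _, p₃, _, hR₃, w, y₃, _, hwy, hy₃y, hy₃p, hGI⟩ := exists_geomIntegral_nhd p' y' (by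
    haveI h : y'.LiesOver p' := inferInstance
    letI := (Ideal.ResidueField.mapₐ p' y' (Algebra.ofId R' D') h.over).toRingHom.toAlgebra
    obtain ⟨ι, x, hx, htop⟩ := hpure'
    exact fun a ha => mem_range_of_isIntegral x hx.1 htop a ha)
  have hR₃' := hR₃
  obtain ⟨heR₃, hp₃, hκ₃⟩ := hR₃'
  haveI := heR₃; haveI := hp₃; haveI := hy₃y; haveI := hy₃p
  haveI : Algebra.Etale D' (R₃ ⊗[R'] D') := etale_rightAlgebra R' R₃ D'
  exact ⟨R₃, inferInstance, inferInstance, p₃, inferInstance, hR₃, w, y₃, inferInstance, hy₃p, hwy,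
    ⟨inferInstance, hy₃y, (bijective_mapₐ_iff y' y₃).2 (FlatDevBC.residueField_bijective p' p₃ hκ₃ y' y₃)⟩,
    smoothRelDim_baseChange n hrel', hGI⟩

/-- An open piece of a base change inside the base change to a localisation. -/
theorem isOpenImmersion_piece {R' R₃ R₄ D' T₄ : Type u} [CommRing R'] [CommRing R₃] [CommRing R₄] [CommRing D']
    [CommRing T₄] [Algebra R' R₃] [Algebra R' R₄] [Algebra R₃ R₄] [IsScalarTower R' R₃ R₄] [Algebra R' D']
    (g : R₃) [IsLocalization.Away g R₄] (e : R₃ ⊗[R'] D') [Algebra (R₃ ⊗[R'] D') T₄] [IsLocalization.Away e T₄]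
    [Algebra (R₄ ⊗[R'] D') T₄]
    (hc : (algebraMap (R₄ ⊗[R'] D') T₄).comp
      (Algebra.TensorProduct.map (IsScalarTower.toAlgHom R' R₃ R₄) (AlgHom.id R' D')).toRingHom =
      algebraMap (R₃ ⊗[R'] D') T₄) :
    AlgebraicGeometry.IsOpenImmersion (AlgebraicGeometry.Spec.map (CommRingCat.ofHom (algebraMap (R₄ ⊗[R'] D') T₄))) := by
  open AlgebraicGeometry CategoryTheory in
  let μ := (Algebra.TensorProduct.map (IsScalarTower.toAlgHom R' R₃ R₄) (AlgHom.id R' D')).toRingHom
  haveI : IsOpenImmersion (Spec.map (CommRingCat.ofHom μ)) := (isOpenImmersion_tensor_left R' g).1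
  haveI : IsOpenImmersion (Spec.map (CommRingCat.ofHom (algebraMap (R₄ ⊗[R'] D') T₄)) ≫ Spec.map (CommRingCat.ofHom μ)) := by
    rw [← Spec.map_comp, ← CommRingCat.ofHom_comp, hc]
    exact IsOpenImmersion.of_isLocalization e
  exact IsOpenImmersion.of_comp _ (Spec.map (CommRingCat.ofHom μ))

end Groth.Agent.OneStepEt
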